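import Mathlib
import Cfsg.Prelude.Def_Sporadic_a

set_option autoImplicit false

/-! Transport of the automorphism group of a set system along an isomorphism of set systems. -/

namespace Cfsg.Agent.Lib.Helper3.SteinerAut

open Cfsg
open scoped Pointwise

variable {α β : Type*} [DecidableEq α] [DecidableEq β]

theorem image_smul_finset (e : α ≃ β) (π : Equiv.Perm α) (b : Finset α) :
    (e.permCongr π) • (b.image e) = (π • b).image e := by
  ext x
  simp only [Finset.mem_smul_finset, Finset.mem_image]
  constructor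
  · rintro ⟨y, ⟨a, ha, rfl⟩, rfl⟩
    exact ⟨π a, ⟨a, ha, rfl⟩, by simp [Equiv.permCongr_apply]⟩
  · rintro ⟨y, ⟨a, ha, rfl⟩, rfl⟩
    exact ⟨e a, ⟨a, ha, rfl⟩, by simp [Equiv.permCongr_apply]⟩

theorem permCongr_mem {B : Set (Finset α)} {B' : Set (Finset β)} (e : α ≃ β)
    (he : (fun b => b.image e) '' B = B') {π : Equiv.Perm α} (hπ : π ∈ setSystemAut B) :
    e.permCongr π ∈ setSystemAut B' := by
  have h1 : π • B = B := hπ
  show e.permCongr π • B' = B'
  rw [← he]
  ext c
  constructor
  · rintro ⟨_, ⟨b, hb, rfl⟩, rfl⟩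
    refine ⟨π • b, ?_, (image_smul_finset e π b).symm⟩
    rw [← h1]
    exact Set.smul_mem_smul_set hb
  · rintro ⟨b, hb, rfl⟩
    rw [← h1] at hb
    obtain ⟨b', hb', rfl⟩ := hb
    exact ⟨b'.image e, ⟨b', hb', rfl⟩, image_smul_finset e π b'⟩

theorem image_symm {B : Set (Finset α)} {B' : Set (Finset β)} (e : α ≃ β)
    (he : (fun b => b.image e) '' B = B') : (fun b => b.image e.symm) '' B' = B := by
  rw [← he, Set.image_image]
  convert Set.image_id B using 2
  ext b x
  simp [Finset.mem_image]

/-- the automorphism groups of isomorphic set systems are isomorphic, compatibly with the actions -/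
theorem exists_aut_equiv {B : Set (Finset α)} {B' : Set (Finset β)} (e : α ≃ β)
    (he : (fun b => b.image e) '' B = B') :
    ∃ φ : setSystemAut B ≃* setSystemAut B',
      ∀ (π : setSystemAut B) (x : α), (φ π : Equiv.Perm β) (e x) = e ((π : Equiv.Perm α) x) := by
  refine ⟨{
    toFun := fun π => ⟨e.permCongr π.1, permCongr_mem e he π.2⟩
    invFun := fun σ => ⟨e.symm.permCongr σ.1, permCongr_mem e.symm (image_symm e he) σ.2⟩
    left_inv := fun π => by
      apply Subtype.ext
      ext x
      simp [Equiv.permCongr_apply]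
    right_inv := fun σ => by
      apply Subtype.ext
      ext x
      simp [Equiv.permCongr_apply]
    map_mul' := fun π σ => by
      apply Subtype.ext
      ext x
      simp [Equiv.permCongr_apply] }, ?_⟩
  intro π x
  simp [Equiv.permCongr_apply]

/-- transport of multiple transitivity -/
theorem multiplyPretransitive_of_equiv {B : Set (Finset α)} {B' : Set (Finset β)} (e : α ≃ β)
    (he : (fun b => b.image e) '' B = B') (n : ℕ)
    (h : MulAction.IsMultiplyPretransitive (setSystemAut B) α n) :
    MulAction.IsMultiplyPretransitive (setSystemAut B') β n := by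
  obtain ⟨φ, hφ⟩ := exists_aut_equiv e he
  constructor
  intro x y
  obtain ⟨π, hπ⟩ := h.exists_smul_eq (x.trans e.symm.toEmbedding) (y.trans e.symm.toEmbedding)
  refine ⟨φ π, ?_⟩
  ext i
  have h1 := DFunLike.congr_fun hπ i
  have h2 : (π : Equiv.Perm α) (e.symm (x i)) = e.symm (y i) := h1
  have h3 := hφ π (e.symm (x i))
  rw [h2, Equiv.apply_symm_apply, Equiv.apply_symm_apply] at h3
  exact h3

end Cfsg.Agent.Lib.Helper3.SteinerAut
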