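import Mathlib
import Cfsg.Prelude.Def_Sporadic_a
import Cfsg.Agent.Lib.Helper3.SteinerAut.Basic
import Cfsg.Agent.Lib.Helper3.Golay.M24Chain
import Cfsg.Agent.Lib.Helper3.Golay.Steiner
import Cfsg.Agent.Lib.Helper3.Golay.Perm

set_option autoImplicit false

/-! The heptads of the Golay code (octads through the point at infinity, with that point removed)
form a Steiner system `S(4,7,23)` whose automorphism group is the point stabilizer of `M24`. -/

namespace Cfsg.Agent.Lib.Helper3.SteinerAut

open Cfsg Cfsg.Agent.Lib.Helper3.Golay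
open scoped Pointwise

/-- the heptads -/
def B23 : Set (Finset (ZMod 23)) := {h | Finset.insertNone h ∈ octads}

theorem insertNone_eraseNone_of_mem {o : Finset GolayPt} (h : (none : GolayPt) ∈ o) :
    Finset.insertNone (Finset.eraseNone o) = o := by
  rw [Finset.insertNone_eraseNone, Finset.insert_eq_of_mem h]

theorem B23_steiner : IsSteinerSystem 4 7 B23 := by
  constructor
  · intro b hb
    have h8 := octads_steiner.1 _ hb
    rw [Finset.card_insertNone] at h8
    omega
  · intro s hs
    have h5 : (Finset.insertNone s).card = 5 := by rw [Finset.card_insertNone, hs]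
    obtain ⟨o, ⟨ho, hso⟩, huniq⟩ := octads_steiner.2 _ h5
    have hnone : (none : GolayPt) ∈ o := hso (Finset.mem_insertNone.mpr (fun a ha => by simp at ha))
    refine ⟨Finset.eraseNone o, ⟨?_, ?_⟩, ?_⟩
    · show Finset.insertNone (Finset.eraseNone o) ∈ octads
      rw [insertNone_eraseNone_of_mem hnone]
      exact ho
    · intro a ha
      rw [Finset.mem_eraseNone]
      exact hso (Finset.mem_insertNone.mpr (fun b hb => by
        rw [Option.mem_def, Option.some_inj] at hb
        subst hb
        exact ha))
    · rintro b ⟨hb, hsb⟩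
      have : Finset.insertNone b = o := huniq _ ⟨hb, Finset.insertNone.monotone hsb⟩
      rw [← this, Finset.eraseNone_insertNone]

theorem insertNone_smul (π : Equiv.Perm (ZMod 23)) (h : Finset (ZMod 23)) :
    Finset.insertNone (π • h) = (Equiv.optionCongr π : Equiv.Perm GolayPt) • Finset.insertNone h := by
  ext p
  cases p with
  | none =>
    simp only [Finset.mem_insertNone, Finset.mem_smul_finset]
    constructor
    · intro _
      exact ⟨none, by simp, rfl⟩
    · intro _ a ha
      simp at ha
  | some a =>
    simp only [Finset.mem_insertNone, Finset.mem_smul_finset, Option.mem_def, Option.some_inj,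
      forall_eq']
    constructor
    · rintro ⟨b, hb, rfl⟩
      exact ⟨some b, by simpa using hb, rfl⟩
    · rintro ⟨q, hq, hqa⟩
      cases q with
      | none => exact absurd hqa (by simp [Equiv.Perm.smul_def])
      | some b =>
        refine ⟨b, by simpa using hq, ?_⟩
        simpa [Equiv.Perm.smul_def] using hqa

theorem optionCongr_removeNone_of_fix {σ : Equiv.Perm GolayPt} (hn : σ none = none) :
    ((Equiv.removeNone σ).optionCongr : Equiv.Perm GolayPt) = σ := by
  rw [map_equiv_removeNone, hn, Equiv.swap_self]
  rfl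

/-- the restriction of an element of `M24` fixing the point at infinity preserves the heptads -/
theorem removeNone_mem {σ : Equiv.Perm GolayPt} (hσ : σ ∈ M24) (hn : σ none = none) :
    Equiv.removeNone σ ∈ setSystemAut B23 := by
  have hoc := optionCongr_removeNone_of_fix hn
  show Equiv.removeNone σ ∈ MulAction.stabilizer (Equiv.Perm (ZMod 23)) B23
  have hfin : (B23 : Set (Finset (ZMod 23))).Finite := Set.toFinite _
  rw [MulAction.mem_stabilizer_set_iff_smul_set_subset hfin]
  rintro _ ⟨h, hh, rfl⟩
  show Finset.insertNone (Equiv.removeNone σ • h) ∈ octads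
  rw [insertNone_smul, hoc]
  exact smul_mem_octads hσ hh


/-! ### the code is spanned by octads through the point at infinity -/

/-- the xor of the members of `ts` selected by the bits `i, i+1, …` of `c` -/
def xorList : List ℕ → ℕ → ℕ → ℕ
  | [], _, _ => 0
  | t :: ts, c, i => (bit c i * t) ^^^ xorList ts c (i + 1)

theorem wordOf_xorList_mem (S : Submodule (ZMod 2) (GolayPt → ZMod 2)) :
    ∀ (ts : List ℕ), (∀ t ∈ ts, wordOf t ∈ S) → ∀ c i : ℕ, wordOf (xorList ts c i) ∈ S
  | [], _, _, _ => by
    show wordOf 0 ∈ S
    rw [wordOf_zero]; exact S.zero_mem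
  | t :: ts, h, c, i => by
    show wordOf ((bit c i * t) ^^^ xorList ts c (i + 1)) ∈ S
    rw [wordOf_xor, bit_mul, wordOf_cond]
    apply S.add_mem
    · split_ifs
      · exact h t (by simp)
      · exact S.zero_mem
    · exact wordOf_xorList_mem S ts (fun t' ht' => h t' (by simp [ht'])) c (i + 1)

/-- twelve octads through the point at infinity -/
def T12 : List ℕ := [0x800c75, 0x8018ea, 0x80254b, 0x804a96, 0x8081b3, 0x810366, 0x8206cc, 0x840d98,
  0x881b30, 0x900bc1, 0xa0031d, 0xc0063a]

/-- selectors expressing the systematic basis -/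
def sel12 : List ℕ := [0x8eb, 0x93c, 0xa97, 0xdc4, 0x364, 0x6cd, 0xd9a, 0x3d8, 0x7b6, 0xf6a, 0x63b, 0xc75]

set_option maxRecDepth 100000 in
theorem cert_T12 : T12.all (fun t => isOct t && t.testBit 23) = true ∧
    allBelow 12 (fun j => Nat.beq (xorList T12 (sel12.getD j 0) 0) (basisMask j)) = true := by
  decide +kernel

theorem idx_none : idx (none : GolayPt) = 23 := by decide +kernel

theorem T12_spec {t : ℕ} (ht : t ∈ T12) : bitSet t ∈ octads ∧ (none : GolayPt) ∈ bitSet t := by
  have h := cert_T12.1
  rw [List.all_eq_true] at h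
  have h' := h t ht
  rw [Bool.and_eq_true] at h'
  refine ⟨isOct_mem h'.1, ?_⟩
  rw [mem_bitSet, idx_none]
  exact h'.2

theorem golayCode_le_span_T12 :
    golayCode ≤ Submodule.span (ZMod 2) {w | ∃ t ∈ T12, w = wordOf t} := by
  conv_lhs => rw [golayCode_eq_span]
  rw [Submodule.span_le]
  rintro _ ⟨j, rfl⟩
  have h := cert_T12.2
  rw [allBelow_iff] at h
  have hj := Nat.eq_of_beq_eq_true (h j j.2)
  show wordOf (basisMask j) ∈ _
  rw [← hj]
  apply wordOf_xorList_mem
  intro t ht
  exact Submodule.subset_span ⟨t, ht, rfl⟩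

/-- a permutation of the 23 points preserving the heptads extends to an element of `M24` -/
theorem optionCongr_mem {π : Equiv.Perm (ZMod 23)} (hπ : π ∈ setSystemAut B23) :
    (Equiv.optionCongr π : Equiv.Perm GolayPt) ∈ M24 := by
  have hπ' : π • B23 = B23 := hπ
  rw [mem_M24_iff]
  have key : Submodule.span (ZMod 2) {w | ∃ t ∈ T12, w = wordOf t} ≤
      Submodule.comap (permWord (Equiv.optionCongr π)) golayCode := by
    rw [Submodule.span_le]
    rintro _ ⟨t, ht, rfl⟩
    obtain ⟨hoct, hnone⟩ := T12_spec ht
    show permWord (Equiv.optionCongr π) (wordOf t) ∈ golayCode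
    have h1 : Finset.eraseNone (bitSet t) ∈ B23 := by
      show Finset.insertNone (Finset.eraseNone (bitSet t)) ∈ octads
      rw [insertNone_eraseNone_of_mem hnone]; exact hoct
    have h2 : π • Finset.eraseNone (bitSet t) ∈ B23 := by
      rw [← hπ']; exact Set.smul_mem_smul_set h1
    have h3 : (Equiv.optionCongr π : Equiv.Perm GolayPt) • bitSet t ∈ octads := by
      have : Finset.insertNone (π • Finset.eraseNone (bitSet t)) ∈ octads := h2
      rwa [insertNone_smul, insertNone_eraseNone_of_mem hnone] at this
    obtain ⟨⟨w', hw', hsupp⟩, -⟩ := mem_octads_iff.mp h3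
    have h4 : support₂ (permWord (Equiv.optionCongr π) (wordOf t)) = support₂ w' := by
      rw [support_permWord, support_wordOf, hsupp]
    rw [support₂_injective h4]
    exact hw'
  intro w hw
  exact key (golayCode_le_span_T12 hw)

end Cfsg.Agent.Lib.Helper3.SteinerAut
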