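import Mathlib
import Cfsg.Prelude.Def_Sporadic_a
import Cfsg.Agent.Lib.Helper3.SteinerAut.M23
import Cfsg.Agent.Lib.Helper14.Golay

set_option autoImplicit false

/-! Words orthogonal to the octads through the two points `∞` and `0` lie in the Golay code up to
adding the word of weight two supported on these two points. -/

namespace Cfsg.Agent.Lib.Helper3.SteinerAut

open Cfsg Cfsg.Agent.Lib.Helper3.Golay
open Cfsg.Agent.Lib.Helper14.Golay (dot dot_add_left selfOrth dot_eq_card)
open scoped Pointwise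

/-- eleven octads through `∞` and `0` -/
def T11 : List ℕ := [0x800c75, 0x80254b, 0x805e09, 0x8081b3, 0x814585, 0x821253, 0x841907, 0x882691,
  0x900bc1, 0xa0031d, 0xc012a5]

/-- an octad through `∞`, not through `0` -/
def c0 : ℕ := 0x8018ea

/-- the mask of `{∞, 0}` -/
def E2 : ℕ := 0x800001

/-- selectors expressing the systematic basis in terms of `T11 ++ [c0]` -/
def sel22 : List ℕ := [0x471, 0x498, 0xd4b, 0x6e1, 0x9b5, 0xb66, 0xecf, 0x1ef, 0x3dd, 0x7b3, 0xb18, 0xe3f]

/-- membership of a mask in the code -/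
def inCodeB (m : ℕ) : Bool := Nat.blt m 16777216 && Nat.beq (codeMask (m % 4096)) m

theorem inCodeB_sound {m : ℕ} (h : inCodeB m = true) : wordOf m ∈ golayCode := by
  unfold inCodeB at h
  rw [Bool.and_eq_true] at h
  rw [← Nat.eq_of_beq_eq_true h.2]
  exact wordOf_codeMask_mem _

set_option maxRecDepth 100000 in
theorem cert_T11 :
    T11.all (fun t => isOct t && t.testBit 23 && t.testBit 0) = true ∧
    (isOct c0 && c0.testBit 23 && !(c0.testBit 0)) = true ∧
    allBelow 12 (fun j => Nat.beq (xorList (T11 ++ [c0]) (sel22.getD j 0) 0) (basisMask j)) = true ∧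
    allBelow 4096 (fun k => !(T11.all (fun t => Nat.beq (pc24 ((k * 4096) &&& t) % 2) 0)) ||
      Nat.beq k 0 || inCodeB ((k * 4096) ^^^ E2)) = true := by
  decide +kernel


theorem T11_spec {t : ℕ} (ht : t ∈ T11) :
    bitSet t ∈ octads ∧ (none : GolayPt) ∈ bitSet t ∧ (some 0 : GolayPt) ∈ bitSet t := by
  have h := cert_T11.1
  rw [List.all_eq_true] at h
  have h' := h t ht
  rw [Bool.and_eq_true, Bool.and_eq_true] at h'
  refine ⟨isOct_mem h'.1.1, ?_, ?_⟩
  · rw [mem_bitSet, idx_none]; exact h'.1.2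
  · rw [mem_bitSet, show idx (some 0 : GolayPt) = 0 by decide +kernel]; exact h'.2

theorem c0_spec : bitSet c0 ∈ octads ∧ (none : GolayPt) ∈ bitSet c0 ∧ (some 0 : GolayPt) ∉ bitSet c0 := by
  have h' := cert_T11.2.1
  rw [Bool.and_eq_true, Bool.and_eq_true, Bool.not_eq_true'] at h'
  refine ⟨isOct_mem h'.1.1, ?_, ?_⟩
  · rw [mem_bitSet, idx_none]; exact h'.1.2
  · rw [mem_bitSet, show idx (some 0 : GolayPt) = 0 by decide +kernel, h'.2]; simp

theorem wordOf_mem_of_octad {t : ℕ} (h : bitSet t ∈ octads) : wordOf t ∈ golayCode := by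
  obtain ⟨⟨w, hw, hsupp⟩, -⟩ := mem_octads_iff.mp h
  have : support₂ (wordOf t) = support₂ w := by rw [support_wordOf, hsupp]
  rw [support₂_injective this]
  exact hw

theorem golayCode_le_span_T11 :
    golayCode ≤ Submodule.span (ZMod 2) {w | ∃ t ∈ T11 ++ [c0], w = wordOf t} := by
  conv_lhs => rw [golayCode_eq_span]
  rw [Submodule.span_le]
  rintro _ ⟨j, rfl⟩
  have h := cert_T11.2.2.1
  rw [allBelow_iff] at h
  have hj := Nat.eq_of_beq_eq_true (h j j.2)
  show wordOf (basisMask j) ∈ _
  rw [← hj]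
  apply wordOf_xorList_mem
  intro t ht
  exact Submodule.subset_span ⟨t, ht, rfl⟩

theorem dot_wordOf (m t : ℕ) : dot (wordOf m) (wordOf t) = ((pc24 (m &&& t) : ℕ) : ZMod 2) := by
  rw [dot_eq_card, support_wordOf, support_wordOf, ← bitSet_and, card_bitSet']

/-- the orthogonality claim -/
theorem mem_or_add_mem (w : GolayPt → ZMod 2) (h : ∀ t ∈ T11, dot w (wordOf t) = 0) :
    w ∈ golayCode ∨ w + wordOf E2 ∈ golayCode := by
  set c : GolayPt → ZMod 2 := ∑ j : Fin 12, w (pt j) • bvec j with hc
  have hcC : c ∈ golayCode := Submodule.sum_mem _ fun j _ => Submodule.smul_mem _ _ (bvec_mem j)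
  set w' := w + c with hw'
  have h1 : ∀ t ∈ T11, dot w' (wordOf t) = 0 := by
    intro t ht
    rw [hw', dot_add_left, h t ht, selfOrth c (wordOf t) hcC (wordOf_mem_of_octad (T11_spec ht).1),
      add_zero]
  have h2 : ∀ i : Fin 12, w' (pt i) = 0 := by
    intro i
    have e : c (pt i) = w (pt i) := by
      rw [hc, Finset.sum_apply]
      have : ∀ j : Fin 12, (w (pt j) • bvec j) (pt i) = if j = i then w (pt j) else 0 := by
        intro j
        have hb : bvec j (pt i) = (Pi.single j 1 : Fin 12 → ZMod 2) i :=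
          congrFun (evalInfo_bvec j) i
        rw [Pi.smul_apply, hb, Pi.single_apply, smul_eq_mul]
        by_cases hji : i = j
        · subst hji; simp
        · simp [hji, Ne.symm hji]
      simp only [this, Finset.sum_ite_eq', Finset.mem_univ, if_true]
    rw [hw', Pi.add_apply, e]
    exact CharTwo.add_self_eq_zero _
  set M := maskOfWord w' with hM
  have hMw : wordOf M = w' := wordOf_maskOfWord w'
  have hMlt : M < 2 ^ 24 := maskOf_lt _
  have hMmod : M % 4096 = 0 := by
    apply Nat.eq_of_testBit_eq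
    intro i
    rw [show (4096 : ℕ) = 2 ^ 12 by norm_num, Nat.testBit_mod_two_pow, Nat.zero_testBit]
    by_cases hi : i < 12
    · have h3 := h2 ⟨i, hi⟩
      have h4 : M.testBit (idx (pt i)) = decide (pt i ∈ support₂ w') := testBit_maskOf _ _
      rw [idx_pt (lt_trans hi (by norm_num))] at h4
      rw [h4]
      simp [hi, mem_support₂, h3]
    · simp [hi]
  obtain ⟨k, hk⟩ : ∃ k, M = k * 4096 := ⟨M / 4096, by omega⟩
  have hk4 : k < 4096 := by
    have : (2 : ℕ) ^ 24 = 4096 * 4096 := by norm_num
    rw [this, hk] at hMlt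
    exact lt_of_mul_lt_mul_right hMlt (Nat.zero_le _)
  have hcert := cert_T11.2.2.2
  rw [allBelow_iff] at hcert
  have hck := hcert k hk4
  rw [Bool.or_eq_true, Bool.or_eq_true] at hck
  rcases hck with (hck | hck) | hck
  · exfalso
    rw [Bool.not_eq_true', ← Bool.not_eq_true, List.all_eq_true] at hck
    apply hck
    intro t ht
    have h5 := h1 t ht
    rw [← hMw, dot_wordOf, hk] at h5
    have h6 : 2 ∣ pc24 ((k * 4096) &&& t) := (ZMod.natCast_eq_zero_iff _ 2).mp h5
    have h7 : pc24 ((k * 4096) &&& t) % 2 = 0 := by omega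
    rw [h7]
    rfl
  · left
    have hk0 : k = 0 := Nat.eq_of_beq_eq_true hck
    have hM0 : w' = 0 := by rw [← hMw, hk, hk0, zero_mul, wordOf_zero]
    have : w = c := by
      have h7 : w + c = 0 := hM0
      have := congrArg (· + c) h7
      simpa [add_assoc, CharTwo.add_self_eq_zero] using this
    rw [this]; exact hcC
  · right
    have h8 := inCodeB_sound hck
    rw [wordOf_xor, ← hk, hMw] at h8
    have : w + wordOf E2 = (w' + wordOf E2) + c := by
      rw [hw']
      funext p
      simp only [Pi.add_apply]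
      have : ∀ a b d : ZMod 2, a + d = a + b + d + b := by decide
      exact this _ _ _
    rw [this]
    exact Submodule.add_mem _ h8 hcC

end Cfsg.Agent.Lib.Helper3.SteinerAut
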