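import Mathlib
import Cfsg.Prelude.Def_Sporadic_a
import Cfsg.Agent.Lib.Helper3.SteinerAut.Dual22

set_option autoImplicit false

/-! The hexads of the Golay code (octads through `∞` and `0`, with these points removed) form a
Steiner system `S(3,6,22)`. -/

namespace Cfsg.Agent.Lib.Helper3.SteinerAut

open Cfsg Cfsg.Agent.Lib.Helper3.Golay
open Cfsg.Agent.Lib.Helper14.Golay (dot dot_add_left selfOrth dot_eq_card)
open scoped Pointwise

/-- the points other than `∞` and `0` -/
def P22 (p : GolayPt) : Prop := p ≠ none ∧ p ≠ some 0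

instance : DecidablePred P22 := fun p => inferInstanceAs (Decidable (p ≠ none ∧ p ≠ some 0))

/-- the 22 points -/
abbrev Pt22 : Type := {p : GolayPt // P22 p}

theorem card_Pt22 : Fintype.card Pt22 = 22 := by decide +kernel

/-- adjoin the two points -/
def ext2 (b : Finset Pt22) : Finset GolayPt :=
  insert none (insert (some 0) (b.map (Function.Embedding.subtype _)))

theorem mem_ext2 {b : Finset Pt22} {p : GolayPt} :
    p ∈ ext2 b ↔ p = none ∨ p = some 0 ∨ ∃ h : P22 p, (⟨p, h⟩ : Pt22) ∈ b := by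
  unfold ext2
  rw [Finset.mem_insert, Finset.mem_insert, Finset.mem_map]
  constructor
  · rintro (h | h | ⟨y, hy, rfl⟩)
    · exact Or.inl h
    · exact Or.inr (Or.inl h)
    · exact Or.inr (Or.inr ⟨y.2, hy⟩)
  · rintro (h | h | ⟨h, hb⟩)
    · exact Or.inl h
    · exact Or.inr (Or.inl h)
    · exact Or.inr (Or.inr ⟨⟨p, h⟩, hb, rfl⟩)

theorem none_mem_ext2 (b : Finset Pt22) : (none : GolayPt) ∈ ext2 b := mem_ext2.mpr (Or.inl rfl)

theorem zero_mem_ext2 (b : Finset Pt22) : (some 0 : GolayPt) ∈ ext2 b :=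
  mem_ext2.mpr (Or.inr (Or.inl rfl))

theorem val_mem_ext2 {b : Finset Pt22} {y : Pt22} : y.val ∈ ext2 b ↔ y ∈ b := by
  rw [mem_ext2]
  constructor
  · rintro (h | h | ⟨_, hb⟩)
    · exact absurd h y.2.1
    · exact absurd h y.2.2
    · exact hb
  · intro h; exact Or.inr (Or.inr ⟨y.2, h⟩)

theorem card_ext2 (b : Finset Pt22) : (ext2 b).card = b.card + 2 := by
  unfold ext2
  rw [Finset.card_insert_of_notMem, Finset.card_insert_of_notMem, Finset.card_map]
  · rw [Finset.mem_map]
    rintro ⟨y, -, e⟩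
    exact y.2.2 e
  · rw [Finset.mem_insert, Finset.mem_map]
    rintro (h | ⟨y, -, e⟩)
    · exact absurd h (by simp)
    · exact y.2.1 e

theorem ext2_subtype {o : Finset GolayPt} (h1 : (none : GolayPt) ∈ o) (h2 : (some 0 : GolayPt) ∈ o) :
    ext2 (o.subtype P22) = o := by
  ext p
  rw [mem_ext2]
  constructor
  · rintro (h | h | ⟨h, hb⟩)
    · rw [h]; exact h1
    · rw [h]; exact h2
    · exact Finset.mem_subtype.mp hb
  · intro hp
    by_cases h : p = none
    · exact Or.inl h
    · by_cases h' : p = some 0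
      · exact Or.inr (Or.inl h')
      · exact Or.inr (Or.inr ⟨⟨h, h'⟩, Finset.mem_subtype.mpr hp⟩)

theorem subtype_ext2 (b : Finset Pt22) : (ext2 b).subtype P22 = b := by
  ext y
  rw [Finset.mem_subtype, val_mem_ext2]

theorem ext2_subset_ext2 {b b' : Finset Pt22} : ext2 b ⊆ ext2 b' ↔ b ⊆ b' := by
  constructor
  · intro h y hy
    exact val_mem_ext2.mp (h (val_mem_ext2.mpr hy))
  · intro h p hp
    rw [mem_ext2] at hp ⊢
    rcases hp with hp | hp | ⟨h1, h2⟩
    · exact Or.inl hp
    · exact Or.inr (Or.inl hp)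
    · exact Or.inr (Or.inr ⟨h1, h h2⟩)

/-- the hexads -/
def B22 : Set (Finset Pt22) := {b | ext2 b ∈ octads}

theorem B22_steiner : IsSteinerSystem 3 6 B22 := by
  constructor
  · intro b hb
    have h8 := octads_steiner.1 _ hb
    rw [card_ext2] at h8
    omega
  · intro s hs
    have h5 : (ext2 s).card = 5 := by rw [card_ext2, hs]
    obtain ⟨o, ⟨ho, hso⟩, huniq⟩ := octads_steiner.2 _ h5
    have h1 : (none : GolayPt) ∈ o := hso (none_mem_ext2 s)
    have h2 : (some 0 : GolayPt) ∈ o := hso (zero_mem_ext2 s)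
    refine ⟨o.subtype P22, ⟨?_, ?_⟩, ?_⟩
    · show ext2 (o.subtype P22) ∈ octads
      rw [ext2_subtype h1 h2]; exact ho
    · rw [← ext2_subset_ext2, ext2_subtype h1 h2]; exact hso
    · rintro b ⟨hb, hsb⟩
      have := huniq (ext2 b) ⟨hb, ext2_subset_ext2.mpr hsb⟩
      rw [← this, subtype_ext2]

/-- the embedding of the permutations of the 22 points -/
abbrev emb22 : Equiv.Perm Pt22 →* Equiv.Perm GolayPt := Equiv.Perm.ofSubtype

theorem emb22_none (π : Equiv.Perm Pt22) : emb22 π none = none :=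
  Equiv.Perm.ofSubtype_apply_of_not_mem π (fun h => h.1 rfl)

theorem emb22_zero (π : Equiv.Perm Pt22) : emb22 π (some 0) = some 0 :=
  Equiv.Perm.ofSubtype_apply_of_not_mem π (fun h => h.2 rfl)

theorem emb22_val (π : Equiv.Perm Pt22) (y : Pt22) : emb22 π y.val = (π y).val :=
  Equiv.Perm.ofSubtype_apply_coe π y

theorem ext2_smul (π : Equiv.Perm Pt22) (b : Finset Pt22) : ext2 (π • b) = emb22 π • ext2 b := by
  ext p
  rw [mem_ext2, Finset.mem_smul_finset]
  constructor
  · rintro (h | h | ⟨h, hb⟩)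
    · exact ⟨none, none_mem_ext2 b, by rw [h]; exact emb22_none π⟩
    · exact ⟨some 0, zero_mem_ext2 b, by rw [h]; exact emb22_zero π⟩
    · rw [Finset.mem_smul_finset] at hb
      obtain ⟨y, hy, hyp⟩ := hb
      refine ⟨y.val, val_mem_ext2.mpr hy, ?_⟩
      show emb22 π y.val = p
      rw [emb22_val]
      have : π y = ⟨p, h⟩ := hyp
      rw [this]
  · rintro ⟨q, hq, rfl⟩
    rw [mem_ext2] at hq
    rcases hq with hq | hq | ⟨h, hb⟩
    · left; rw [hq]; exact emb22_none π
    · right; left; rw [hq]; exact emb22_zero π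
    · right; right
      have e : emb22 π • q = (π ⟨q, h⟩).val := emb22_val π ⟨q, h⟩
      refine ⟨by rw [e]; exact (π ⟨q, h⟩).2, ?_⟩
      rw [Finset.mem_smul_finset]
      exact ⟨⟨q, h⟩, hb, Subtype.ext e.symm⟩

end Cfsg.Agent.Lib.Helper3.SteinerAut
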