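import Mathlib
import Cfsg.Prelude.Def_Sporadic_a
import Cfsg.Prelude.Def_Sporadic
import Cfsg.Agent.Lib.Helper3.SteinerAut.M22
import Cfsg.Agent.S0366
import Cfsg.Agent.S0372
import Cfsg.Agent.S0378
import Cfsg.Agent.S0379

set_option autoImplicit false

/-! The automorphism group of the hexad system `S(3,6,22)`. -/

namespace Cfsg.Agent.Lib.Helper3.SteinerAut

open Cfsg Cfsg.Agent.Lib.Helper3.Golay
open Cfsg.Agent.Lib.Helper14.Golay (dot dot_add_left selfOrth dot_eq_card)
open scoped Pointwise

/-- the transposition of `∞` and `0` -/
def sw : Equiv.Perm GolayPt := Equiv.swap none (some 0)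

theorem sw_none : sw none = some 0 := Equiv.swap_apply_left _ _
theorem sw_zero : sw (some 0) = none := Equiv.swap_apply_right _ _
theorem sw_of_P22 {p : GolayPt} (h : P22 p) : sw p = p := Equiv.swap_apply_of_ne_of_ne h.1 h.2
theorem sw_mul_sw : sw * sw = 1 := Equiv.swap_mul_self _ _
theorem sw_symm : sw.symm = sw := Equiv.symm_swap _ _

theorem sw_smul_of_mem {o : Finset GolayPt} (h1 : (none : GolayPt) ∈ o) (h2 : (some 0 : GolayPt) ∈ o) :
    sw • o = o := by
  ext p
  rw [Finset.mem_smul_finset]
  constructor
  · rintro ⟨q, hq, rfl⟩
    by_cases h : q = none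
    · rw [h]; show sw none ∈ o; rw [sw_none]; exact h2
    · by_cases h' : q = some 0
      · rw [h']; show sw (some 0) ∈ o; rw [sw_zero]; exact h1
      · show sw q ∈ o; rw [sw_of_P22 ⟨h, h'⟩]; exact hq
  · intro hp
    by_cases h : p = none
    · exact ⟨some 0, h2, by rw [h]; exact sw_zero⟩
    · by_cases h' : p = some 0
      · exact ⟨none, h1, by rw [h']; exact sw_none⟩
      · exact ⟨p, hp, sw_of_P22 ⟨h, h'⟩⟩

theorem sw_comm (π : Equiv.Perm Pt22) : sw * emb22 π = emb22 π * sw := by
  apply Equiv.ext
  intro p
  show sw (emb22 π p) = emb22 π (sw p)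
  by_cases h : p = none
  · rw [h, emb22_none, sw_none, emb22_zero]
  · by_cases h' : p = some 0
    · rw [h', emb22_zero, sw_zero, emb22_none]
    · rw [sw_of_P22 ⟨h, h'⟩]
      have e : emb22 π p = (π ⟨p, ⟨h, h'⟩⟩).val := emb22_val π ⟨p, ⟨h, h'⟩⟩
      rw [e, sw_of_P22 (π ⟨p, ⟨h, h'⟩⟩).2]

/-- a word whose image has octad support lies in the code -/
theorem permWord_mem_of_smul {σ : Equiv.Perm GolayPt} {t : ℕ} (h : σ • bitSet t ∈ octads) :
    permWord σ (wordOf t) ∈ golayCode := by
  obtain ⟨⟨w', hw', hsupp⟩, -⟩ := mem_octads_iff.mp h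
  have h4 : support₂ (permWord σ (wordOf t)) = support₂ w' := by
    rw [support_permWord, support_wordOf, hsupp]
  rw [support₂_injective h4]
  exact hw'

theorem dot_permWord (σ : Equiv.Perm GolayPt) (u v : GolayPt → ZMod 2) :
    dot (permWord σ u) (permWord σ v) = dot u v := by
  unfold dot
  exact Equiv.sum_comp σ.symm (fun q => u q * v q)

theorem permWord_mul (σ τ : Equiv.Perm GolayPt) (w : GolayPt → ZMod 2) :
    permWord (σ * τ) w = permWord σ (permWord τ w) := by
  funext p
  simp [permWord_apply, Equiv.Perm.mul_def]

theorem permWord_inv_permWord (σ : Equiv.Perm GolayPt) (w : GolayPt → ZMod 2) :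
    permWord σ (permWord σ⁻¹ w) = w := by
  rw [← permWord_mul, mul_inv_cancel]
  rfl

/-- an automorphism of the hexads maps octads through the two points to octads -/
theorem emb22_smul_mem {π : Equiv.Perm Pt22} (hπ : π ∈ setSystemAut B22) {o : Finset GolayPt}
    (ho : o ∈ octads) (h1 : (none : GolayPt) ∈ o) (h2 : (some 0 : GolayPt) ∈ o) :
    emb22 π • o ∈ octads := by
  have hπ' : π • B22 = B22 := hπ
  have hb : o.subtype P22 ∈ B22 := by
    show ext2 (o.subtype P22) ∈ octads
    rw [ext2_subtype h1 h2]; exact ho
  have h3 : π • o.subtype P22 ∈ B22 := by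
    rw [← hπ']; exact Set.smul_mem_smul_set hb
  have h4 : ext2 (π • o.subtype P22) ∈ octads := h3
  rwa [ext2_smul, ext2_subtype h1 h2] at h4

/-- a permutation fixing the two points is in the image of the embedding -/
theorem exists_emb22_eq {g : Equiv.Perm GolayPt} (h1 : g none = none) (h2 : g (some 0) = some 0) :
    ∃ π : Equiv.Perm Pt22, emb22 π = g := by
  have hP : ∀ x, P22 (g x) ↔ P22 x := by
    intro x
    unfold P22
    constructor
    · rintro ⟨ha, hb⟩
      refine ⟨?_, ?_⟩
      · rintro rfl; exact ha h1
      · rintro rfl; exact hb h2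
    · rintro ⟨ha, hb⟩
      refine ⟨?_, ?_⟩
      · intro h; rw [← h1] at h; exact ha (g.injective h)
      · intro h; rw [← h2] at h; exact hb (g.injective h)
  refine ⟨g.subtypePerm hP, ?_⟩
  apply Equiv.Perm.ofSubtype_subtypePerm
  intro x hx
  by_contra hn
  unfold P22 at hn
  rw [not_and_or, not_not, not_not] at hn
  rcases hn with rfl | rfl
  · exact hx h1
  · exact hx h2

/-- if moreover it maps octads through the two points to octads, it comes from an automorphism -/
theorem mem_aut_of_emb22 {π : Equiv.Perm Pt22}
    (h : ∀ o ∈ octads, (none : GolayPt) ∈ o → (some 0 : GolayPt) ∈ o → emb22 π • o ∈ octads) :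
    π ∈ setSystemAut B22 := by
  show π ∈ MulAction.stabilizer (Equiv.Perm Pt22) B22
  have hfin : (B22 : Set (Finset Pt22)).Finite := Set.toFinite _
  rw [MulAction.mem_stabilizer_set_iff_smul_set_subset hfin]
  rintro _ ⟨b, hb, rfl⟩
  show ext2 (π • b) ∈ octads
  rw [ext2_smul]
  exact h _ hb (none_mem_ext2 b) (zero_mem_ext2 b)

/-- the dichotomy -/
theorem emb22_mem_or {π : Equiv.Perm Pt22} (hπ : π ∈ setSystemAut B22) :
    emb22 π ∈ M24 ∨ sw * emb22 π ∈ M24 := by
  set σ := emb22 π with hσ
  have hinv : π⁻¹ ∈ setSystemAut B22 := inv_mem hπ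
  set w := permWord σ (wordOf c0) with hw
  have hc0 := wordOf_mem_of_octad c0_spec.1
  have horth : ∀ t ∈ T11, dot w (wordOf t) = 0 := by
    intro t ht
    obtain ⟨hoct, hn, hz⟩ := T11_spec ht
    have h1 : permWord σ⁻¹ (wordOf t) ∈ golayCode := by
      apply permWord_mem_of_smul
      rw [hσ, ← map_inv]
      exact emb22_smul_mem hinv hoct hn hz
    rw [← permWord_inv_permWord σ (wordOf t), hw, dot_permWord]
    exact selfOrth _ _ hc0 h1
  have hT : ∀ t ∈ T11, permWord σ (wordOf t) ∈ golayCode := by
    intro t ht
    obtain ⟨hoct, hn, hz⟩ := T11_spec ht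
    exact permWord_mem_of_smul (emb22_smul_mem hπ hoct hn hz)
  rcases mem_or_add_mem w horth with h | h
  · left
    rw [mem_M24_iff]
    have key : Submodule.span (ZMod 2) {w | ∃ t ∈ T11 ++ [c0], w = wordOf t} ≤
        Submodule.comap (permWord σ) golayCode := by
      rw [Submodule.span_le]
      rintro _ ⟨t, ht, rfl⟩
      rw [List.mem_append, List.mem_singleton] at ht
      rcases ht with ht | rfl
      · exact hT t ht
      · exact h
    intro v hv
    exact key (golayCode_le_span_T11 hv)
  · right
    rw [mem_M24_iff]
    have key : Submodule.span (ZMod 2) {w | ∃ t ∈ T11 ++ [c0], w = wordOf t} ≤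
        Submodule.comap (permWord (sw * σ)) golayCode := by
      rw [Submodule.span_le]
      rintro _ ⟨t, ht, rfl⟩
      rw [List.mem_append, List.mem_singleton] at ht
      show permWord (sw * σ) (wordOf t) ∈ golayCode
      rcases ht with ht | rfl
      · obtain ⟨hoct, hn, hz⟩ := T11_spec ht
        apply permWord_mem_of_smul
        rw [mul_smul]
        have h5 := emb22_smul_mem hπ hoct hn hz
        have h6 : (none : GolayPt) ∈ σ • bitSet t :=
          Finset.mem_smul_finset.mpr ⟨none, hn, emb22_none π⟩
        have h7 : (some 0 : GolayPt) ∈ σ • bitSet t :=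
          Finset.mem_smul_finset.mpr ⟨some 0, hz, emb22_zero π⟩
        rw [sw_smul_of_mem h6 h7]
        exact h5
      · rw [permWord_mul]
        have : permWord sw w = w + wordOf E2 := by
          funext p
          rw [permWord_apply, sw_symm, Pi.add_apply]
          have hwn : w none = 1 := by
            rw [hw, permWord_apply]
            have : σ.symm none = none := by
              rw [Equiv.symm_apply_eq]; exact (emb22_none π).symm
            rw [this, wordOf_apply, idx_none]
            have := c0_spec.2.1
            rw [mem_bitSet, idx_none] at this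
            rw [this]; rfl
          have hwz : w (some 0) = 0 := by
            rw [hw, permWord_apply]
            have : σ.symm (some 0) = some 0 := by
              rw [Equiv.symm_apply_eq]; exact (emb22_zero π).symm
            rw [this, wordOf_apply]
            have := c0_spec.2.2
            rw [mem_bitSet] at this
            simp only [Bool.not_eq_true] at this
            rw [this]; rfl
          by_cases h : p = none
          · rw [h, sw_none, hwz, hwn]
            have : wordOf E2 none = 1 := by decide +kernel
            rw [this]; decide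
          · by_cases h' : p = some 0
            · rw [h', sw_zero, hwz, hwn]
              have : wordOf E2 (some 0) = 1 := by decide +kernel
              rw [this]; decide
            · rw [sw_of_P22 ⟨h, h'⟩]
              have : wordOf E2 p = 0 := by
                rw [wordOf_apply]
                have hb : E2.testBit (idx p) = false := by
                  have h23 : idx p ≠ 23 := by
                    intro e; apply h; rw [← pt_idx p, e]; rfl
                  have h0 : idx p ≠ 0 := by
                    intro e; apply h'; rw [← pt_idx p, e]; rfl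
                  have hlt := idx_lt p
                  generalize idx p = i at *
                  interval_cases i <;> first | (exfalso; omega) | rfl
                rw [hb]; rfl
              rw [this, add_zero]
        rw [this]
        exact h
    intro v hv
    exact key (golayCode_le_span_T11 hv)

end Cfsg.Agent.Lib.Helper3.SteinerAut
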