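import Mathlib
import Cfsg.Prelude.Def_Sporadic_a
import Cfsg.Prelude.Def_Sporadic
import Cfsg.Agent.Lib.Helper3.SteinerAut.M22Main
import Cfsg.Agent.S0410

set_option autoImplicit false

/-! The automorphism group of a Steiner system `S(3,6,22)` has order `887040`, is 3-transitive
and has a simple subgroup of index two of order `443520`. -/

namespace Cfsg.Agent.Lib.Helper3.SteinerAut

open Cfsg Cfsg.Agent.Lib.Helper3.Golay
open scoped Pointwise

/-- the automorphisms extending to elements of `M24` -/
def H22 : Subgroup ↥(setSystemAut B22) := (M24.comap emb22).subgroupOf (setSystemAut B22)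

theorem mem_H22 {π : ↥(setSystemAut B22)} : π ∈ H22 ↔ emb22 π.1 ∈ M24 := by
  unfold H22
  rw [Subgroup.mem_subgroupOf, Subgroup.mem_comap]

/-- the extension homomorphism -/
def homH22 : ↥H22 →* ↥M24 where
  toFun π := ⟨emb22 π.1.1, mem_H22.mp π.2⟩
  map_one' := Subtype.ext (map_one emb22)
  map_mul' π σ := Subtype.ext (map_mul emb22 π.1.1 σ.1.1)

theorem homH22_injective : Function.Injective homH22 := by
  intro π σ h
  apply Subtype.ext
  apply Subtype.ext
  exact Equiv.Perm.ofSubtype_injective (congrArg Subtype.val h)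

theorem mem_aut_of_mem_M24 {π : Equiv.Perm Pt22} (h : emb22 π ∈ M24) : π ∈ setSystemAut B22 :=
  mem_aut_of_emb22 (fun _ ho _ _ => smul_mem_octads h ho)

theorem homH22_range : homH22.range =
    MulAction.stabilizer ↥M24 (none : GolayPt) ⊓ MulAction.stabilizer ↥M24 (some 0 : GolayPt) := by
  ext σ
  rw [Subgroup.mem_inf, MulAction.mem_stabilizer_iff, MulAction.mem_stabilizer_iff]
  constructor
  · rintro ⟨π, rfl⟩
    exact ⟨emb22_none _, emb22_zero _⟩
  · rintro ⟨h1, h2⟩
    have h1' : (σ : Equiv.Perm GolayPt) none = none := h1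
    have h2' : (σ : Equiv.Perm GolayPt) (some 0) = some 0 := h2
    obtain ⟨π, hπ⟩ := exists_emb22_eq h1' h2'
    have hM : emb22 π ∈ M24 := by rw [hπ]; exact σ.2
    exact ⟨⟨⟨π, mem_aut_of_mem_M24 hM⟩, mem_H22.mpr hM⟩, Subtype.ext hπ⟩

/-- the subgroup is the two-point stabilizer of `M24` -/
noncomputable def H22Equiv : ↥H22 ≃*
    ↥(MulAction.stabilizer ↥M24 (none : GolayPt) ⊓ MulAction.stabilizer ↥M24 (some 0 : GolayPt)) :=
  (MonoidHom.ofInjective homH22_injective).trans (MulEquiv.subgroupCongr homH22_range)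

theorem H22_isM22 : IsM22 ↥H22 := by
  have hne : (none : GolayPt) ≠ some 0 := by simp
  constructor
  · haveI := Cfsg.Agent.S0379.result (none : GolayPt) (some 0) hne
    exact H22Equiv.isSimpleGroup_congr.mpr inferInstance
  · rw [Nat.card_congr H22Equiv.toEquiv]
    exact Cfsg.Agent.S0378.result none (some 0) hne

theorem permWord_sw {w : GolayPt → ZMod 2} (hwn : w none = 1) (hwz : w (some 0) = 0) :
    permWord sw w = w + wordOf E2 := by
  funext p
  rw [permWord_apply, sw_symm, Pi.add_apply]
  by_cases h : p = none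
  · rw [h, sw_none, hwz, hwn]
    have : wordOf E2 none = 1 := by decide +kernel
    rw [this]; decide
  · by_cases h' : p = some 0
    · rw [h', sw_zero, hwz, hwn]
      have : wordOf E2 (some 0) = 1 := by decide +kernel
      rw [this]; decide
    · rw [sw_of_P22 ⟨h, h'⟩]
      have : wordOf E2 p = 0 := by
        rw [wordOf_apply]
        have hb : E2.testBit (idx p) = false := by
          have h23 : idx p ≠ 23 := by
            intro e; apply h; rw [← pt_idx p, e]; rfl
          have h0 : idx p ≠ 0 := by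
            intro e; apply h'; rw [← pt_idx p, e]; rfl
          have hlt := idx_lt p
          generalize idx p = i at *
          interval_cases i <;> first | (exfalso; omega) | rfl
        rw [hb]; rfl
      rw [this, add_zero]

theorem sw_not_mem : sw ∉ M24 := by
  intro h
  have hc0 := wordOf_mem_of_octad c0_spec.1
  have h1 := (mem_M24_iff sw).mp h (wordOf c0) hc0
  have hwn : wordOf c0 none = 1 := by decide +kernel
  have hwz : wordOf c0 (some 0) = 0 := by decide +kernel
  rw [permWord_sw hwn hwz] at h1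
  have h2 : wordOf E2 ∈ golayCode := by
    have := Submodule.add_mem _ hc0 h1
    rwa [← add_assoc, CharTwo.add_self_eq_zero, zero_add] at this
  have h3 := weight_mem h2
  rw [hammingNorm_wordOf, ← pc24_eq] at h3
  have : pc24 E2 = 2 := by decide +kernel
  rw [this] at h3
  omega

theorem exists_not_mem_H22 : ∃ a : ↥(setSystemAut B22), a ∉ H22 := by
  have hp := Cfsg.Agent.S0372.result
  have hpn : projInv none = some 0 := by decide +kernel
  have hpz : projInv (some 0) = none := by decide +kernel
  have h1 : (sw * projInv) none = none := by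
    show sw (projInv none) = none
    rw [hpn, sw_zero]
  have h2 : (sw * projInv) (some 0) = some 0 := by
    show sw (projInv (some 0)) = some 0
    rw [hpz, sw_none]
  obtain ⟨π, hπ⟩ := exists_emb22_eq h1 h2
  have hA : π ∈ setSystemAut B22 := by
    apply mem_aut_of_emb22
    intro o ho hn hz
    rw [hπ, mul_smul]
    have h5 : projInv • o ∈ octads := smul_mem_octads hp ho
    have h6 : (none : GolayPt) ∈ projInv • o := Finset.mem_smul_finset.mpr ⟨some 0, hz, hpz⟩
    have h7 : (some 0 : GolayPt) ∈ projInv • o := Finset.mem_smul_finset.mpr ⟨none, hn, hpn⟩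
    rw [sw_smul_of_mem h6 h7]
    exact h5
  refine ⟨⟨π, hA⟩, ?_⟩
  rw [mem_H22]
  intro h
  apply sw_not_mem
  have : sw = emb22 π * projInv⁻¹ := by rw [hπ, mul_assoc, mul_inv_cancel, mul_one]
  rw [this]
  exact M24.mul_mem h (M24.inv_mem hp)

theorem H22_index : H22.index = 2 := by
  rw [Subgroup.index_eq_two_iff]
  obtain ⟨a, ha⟩ := exists_not_mem_H22
  refine ⟨a, fun b => ?_⟩
  by_cases hb : b ∈ H22
  · refine Or.inr ⟨hb, fun hba => ha ?_⟩
    have := H22.mul_mem (H22.inv_mem hb) hba
    simpa using this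
  · refine Or.inl ⟨?_, hb⟩
    rw [mem_H22] at *
    have h1 := (emb22_mem_or b.2).resolve_left hb
    have h2 := (emb22_mem_or a.2).resolve_left ha
    have : emb22 (b * a).1 = (sw * emb22 b.1) * (sw * emb22 a.1) := by
      rw [Subgroup.coe_mul, map_mul, mul_assoc sw, ← mul_assoc (emb22 b.1) sw, ← sw_comm,
        mul_assoc sw (emb22 b.1), ← mul_assoc sw sw, sw_mul_sw, one_mul]
    rw [this]
    exact M24.mul_mem h1 h2

theorem aut22_card : Nat.card ↥(setSystemAut B22) = 887040 := by
  rw [← Subgroup.card_mul_index H22, H22_index, H22_isM22.2]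

theorem aut22_trans : MulAction.IsMultiplyPretransitive ↥(setSystemAut B22) Pt22 3 := by
  constructor
  intro x y
  have hinj : ∀ z : Fin 3 ↪ Pt22, Function.Injective
      (Fin.cons (none : GolayPt) (Fin.cons (some 0 : GolayPt) (fun i => (z i).val)) :
        Fin 5 → GolayPt) := by
    intro z
    rw [Fin.cons_injective_iff]
    refine ⟨?_, ?_⟩
    · rintro ⟨i, hi⟩
      revert hi
      refine Fin.cases ?_ (fun j => ?_) i
      · simp
      · intro hj
        rw [Fin.cons_succ] at hj
        exact (z j).2.1 hj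
    · rw [Fin.cons_injective_iff]
      refine ⟨?_, ?_⟩
      · rintro ⟨i, hi⟩
        exact (z i).2.2 hi
      · intro i j hij
        exact z.injective (Subtype.ext hij)
  let x' : Fin 5 ↪ GolayPt := ⟨_, hinj x⟩
  let y' : Fin 5 ↪ GolayPt := ⟨_, hinj y⟩
  haveI := Cfsg.Agent.S0366.result
  obtain ⟨σ, hσ⟩ := MulAction.exists_smul_eq ↥M24 x' y'
  have h0 : (σ : Equiv.Perm GolayPt) none = none := DFunLike.congr_fun hσ 0
  have h1 : (σ : Equiv.Perm GolayPt) (some 0) = some 0 := DFunLike.congr_fun hσ 1
  have hi : ∀ i : Fin 3, (σ : Equiv.Perm GolayPt) (x i).val = (y i).val := by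
    intro i
    exact DFunLike.congr_fun hσ i.succ.succ
  obtain ⟨π, hπ⟩ := exists_emb22_eq h0 h1
  have hM : emb22 π ∈ M24 := by rw [hπ]; exact σ.2
  refine ⟨⟨π, mem_aut_of_mem_M24 hM⟩, ?_⟩
  apply DFunLike.ext
  intro i
  apply Subtype.ext
  show (π (x i)).val = (y i).val
  rw [← emb22_val, hπ]
  exact hi i

/-- the general statement -/
theorem aut_steiner_3_6_22 {α : Type*} [Fintype α] [DecidableEq α] (hα : Fintype.card α = 22)
    {B : Set (Finset α)} (hB : Cfsg.IsSteinerSystem 3 6 B) :
    Nat.card (Cfsg.setSystemAut B) = 887040 ∧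
      MulAction.IsMultiplyPretransitive (Cfsg.setSystemAut B) α 3 ∧
      ∃ H : Subgroup (Cfsg.setSystemAut B), H.index = 2 ∧ Cfsg.IsM22 H := by
  obtain ⟨e, he⟩ := Cfsg.Agent.S0410.result card_Pt22 hα B22_steiner hB
  obtain ⟨φ, -⟩ := exists_aut_equiv e he
  refine ⟨?_, multiplyPretransitive_of_equiv e he 3 aut22_trans,
    H22.map (φ : ↥(setSystemAut B22) →* ↥(setSystemAut B)), ?_, ?_⟩
  · rw [← Nat.card_congr φ.toEquiv]
    exact aut22_card
  · rw [Subgroup.index_map_equiv]
    exact H22_index
  · have ψ : ↥H22 ≃* ↥(H22.map (φ : ↥(setSystemAut B22) →* ↥(setSystemAut B))) :=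
      H22.equivMapOfInjective _ φ.injective
    constructor
    · haveI := H22_isM22.1
      exact ψ.symm.isSimpleGroup_congr.mpr inferInstance
    · rw [← Nat.card_congr ψ.toEquiv]
      exact H22_isM22.2

end Cfsg.Agent.Lib.Helper3.SteinerAut
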