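import Mathlib
import Cfsg.Prelude.Def_Sporadic_a
import Cfsg.Prelude.Def_Sporadic
import Cfsg.Agent.Lib.Helper3.SteinerAut.M23
import Cfsg.Agent.S0366
import Cfsg.Agent.S0376
import Cfsg.Agent.S0377
import Cfsg.Agent.S0409

set_option autoImplicit false

/-! The automorphism group of a Steiner system `S(4,7,23)` is simple of order `10200960` and
4-transitive. -/

namespace Cfsg.Agent.Lib.Helper3.SteinerAut

open Cfsg Cfsg.Agent.Lib.Helper3.Golay
open scoped Pointwise

theorem optionCongr_mul (π σ : Equiv.Perm (ZMod 23)) :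
    (Equiv.optionCongr (π * σ) : Equiv.Perm GolayPt) = Equiv.optionCongr π * Equiv.optionCongr σ := by
  ext p
  cases p <;> simp

/-- the extension homomorphism -/
def extHom : ↥(setSystemAut B23) →* ↥M24 where
  toFun π := ⟨Equiv.optionCongr π.1, optionCongr_mem π.2⟩
  map_one' := Subtype.ext Equiv.optionCongr_one
  map_mul' π σ := Subtype.ext (optionCongr_mul π.1 σ.1)

theorem extHom_injective : Function.Injective extHom := by
  intro π σ h
  apply Subtype.ext
  apply Equiv.optionCongr_injective
  exact congrArg Subtype.val h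

theorem extHom_range : extHom.range = MulAction.stabilizer ↥M24 (none : GolayPt) := by
  ext σ
  rw [MulAction.mem_stabilizer_iff]
  constructor
  · rintro ⟨π, rfl⟩
    rfl
  · intro h
    have hn : (σ : Equiv.Perm GolayPt) none = none := h
    refine ⟨⟨Equiv.removeNone σ.1, removeNone_mem σ.2 hn⟩, ?_⟩
    apply Subtype.ext
    exact optionCongr_removeNone_of_fix hn

/-- the automorphism group of the heptads is the point stabilizer -/
noncomputable def aut23Equiv : ↥(setSystemAut B23) ≃* ↥(MulAction.stabilizer ↥M24 (none : GolayPt)) :=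
  (MonoidHom.ofInjective extHom_injective).trans (MulEquiv.subgroupCongr extHom_range)

theorem aut23_simple : IsSimpleGroup ↥(setSystemAut B23) := by
  haveI := Cfsg.Agent.S0377.result (none : GolayPt)
  exact aut23Equiv.isSimpleGroup_congr.mpr inferInstance

theorem aut23_card : Nat.card ↥(setSystemAut B23) = 10200960 := by
  rw [Nat.card_congr aut23Equiv.toEquiv]
  exact Cfsg.Agent.S0376.result none

theorem aut23_trans : MulAction.IsMultiplyPretransitive ↥(setSystemAut B23) (ZMod 23) 4 := by
  constructor
  intro x y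
  -- extend to five points
  have hinj : ∀ z : Fin 4 ↪ ZMod 23,
      Function.Injective (Fin.cons (none : GolayPt) (fun i => (some (z i) : GolayPt)) : Fin 5 → GolayPt) := by
    intro z
    rw [Fin.cons_injective_iff]
    refine ⟨?_, ?_⟩
    · rintro ⟨i, hi⟩
      exact absurd hi (by simp)
    · intro i j hij
      exact z.injective (Option.some_injective _ hij)
  let x' : Fin 5 ↪ GolayPt := ⟨_, hinj x⟩
  let y' : Fin 5 ↪ GolayPt := ⟨_, hinj y⟩
  haveI := Cfsg.Agent.S0366.result
  obtain ⟨σ, hσ⟩ := MulAction.exists_smul_eq ↥M24 x' y'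
  have h0 : (σ : Equiv.Perm GolayPt) none = none := by
    have := DFunLike.congr_fun hσ 0
    exact this
  have hi : ∀ i : Fin 4, (σ : Equiv.Perm GolayPt) (some (x i)) = some (y i) := by
    intro i
    have := DFunLike.congr_fun hσ i.succ
    exact this
  refine ⟨⟨Equiv.removeNone σ.1, removeNone_mem σ.2 h0⟩, ?_⟩
  ext i
  show Equiv.removeNone σ.1 (x i) = y i
  apply Option.some_injective
  rw [Equiv.removeNone_some _ ⟨y i, hi i⟩]
  exact hi i

/-- the general statement -/
theorem aut_steiner_4_7_23 {α : Type*} [Fintype α] [DecidableEq α] (hα : Fintype.card α = 23)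
    {B : Set (Finset α)} (hB : Cfsg.IsSteinerSystem 4 7 B) :
    Cfsg.IsM23 (Cfsg.setSystemAut B) ∧
      MulAction.IsMultiplyPretransitive (Cfsg.setSystemAut B) α 4 := by
  obtain ⟨e, he⟩ := Cfsg.Agent.S0409.result (ZMod.card 23) hα B23_steiner hB
  obtain ⟨φ, -⟩ := exists_aut_equiv e he
  refine ⟨⟨?_, ?_⟩, multiplyPretransitive_of_equiv e he 4 aut23_trans⟩
  · haveI := aut23_simple
    exact φ.symm.isSimpleGroup_congr.mpr inferInstance
  · rw [← Nat.card_congr φ.toEquiv]
    exact aut23_card

end Cfsg.Agent.Lib.Helper3.SteinerAut
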